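import Groth.Agent.MiscA.WCPlaceCrv
import Mathlib.RingTheory.PowerSeries.Basic
import Mathlib.RingTheory.Henselian
import Mathlib.RingTheory.AdicCompletion.Completeness
import Mathlib.FieldTheory.PrimitiveElement

/-!
# S11480, node PHI: endomorphisms of `K⟦X⟧` over `k⟦X⟧` moving a separating element to a lift
-/

set_option autoImplicit false

universe u

open WithZero PowerSeries

namespace K888.SerPhi

open Groth.Agent.Models.FFRR Groth.Agent.MiscA.WCPlace Groth.Agent.MiscA.WCPlaceCrv

section diag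

variable {K : Type*} [CommRing K]

theorem sum_diag (f g : ℕ → ℕ → K) (n : ℕ) :
    (∑ p ∈ Finset.antidiagonal n, ∑ q ∈ Finset.antidiagonal p.1, ∑ r ∈ Finset.antidiagonal p.2,
      f q.1 r.1 * g q.2 r.2) =
    ∑ p ∈ Finset.antidiagonal n, (∑ q ∈ Finset.antidiagonal p.1, f q.1 q.2) *
      ∑ r ∈ Finset.antidiagonal p.2, g r.1 r.2 := by
  simp only [Finset.sum_mul_sum, Finset.sum_sigma']
  refine Finset.sum_bij' (fun x _ => ⟨(x.2.1.1 + x.2.2.1, x.2.1.2 + x.2.2.2), ⟨(x.2.1.1, x.2.2.1), (x.2.1.2, x.2.2.2)⟩⟩)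
    (fun x _ => ⟨(x.2.1.1 + x.2.2.1, x.2.1.2 + x.2.2.2), ⟨(x.2.1.1, x.2.2.1), (x.2.1.2, x.2.2.2)⟩⟩) ?_ ?_ ?_ ?_ ?_
  · rintro ⟨⟨i, j⟩, ⟨⟨a, b⟩, ⟨c, d⟩⟩⟩ h
    simp only [Finset.mem_sigma, Finset.mem_antidiagonal] at h ⊢
    obtain ⟨h1, h2, h3⟩ := h
    refine ⟨by omega, ?_⟩
    simp
  · rintro ⟨⟨i, j⟩, ⟨⟨a, b⟩, ⟨c, d⟩⟩⟩ h
    simp only [Finset.mem_sigma, Finset.mem_antidiagonal] at h ⊢
    obtain ⟨h1, h2, h3⟩ := h
    refine ⟨by omega, ?_⟩
    simp
  · rintro ⟨⟨i, j⟩, ⟨⟨a, b⟩, ⟨c, d⟩⟩⟩ h
    simp only [Finset.mem_sigma, Finset.mem_antidiagonal] at h ⊢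
    obtain ⟨h1, h2, h3⟩ := h
    subst h2 h3
    rfl
  · rintro ⟨⟨i, j⟩, ⟨⟨a, b⟩, ⟨c, d⟩⟩⟩ h
    simp only [Finset.mem_sigma, Finset.mem_antidiagonal] at h ⊢
    obtain ⟨h1, h2, h3⟩ := h
    subst h2 h3
    rfl
  · rintro ⟨⟨i, j⟩, ⟨⟨a, b⟩, ⟨c, d⟩⟩⟩ h
    rfl

/-- Evaluation of a series over `K⟦X⟧` at `X`. -/
noncomputable def diag : PowerSeries (PowerSeries K) →+* PowerSeries K where
  toFun F := PowerSeries.mk fun n => ∑ p ∈ Finset.antidiagonal n, coeff p.2 (coeff p.1 F)
  map_one' := by
    ext n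
    rw [coeff_mk]
    simp only [coeff_one]
    rw [Finset.sum_eq_single (0, n)]
    · simp [coeff_one]
    · rintro ⟨a, b⟩ hab h
      have ha : a ≠ 0 := by
        rintro rfl
        apply h
        rw [Finset.mem_antidiagonal] at hab
        simpa using hab
      simp only [if_neg ha, map_zero]
    · intro h
      exact absurd (by simp) h
  map_zero' := by
    ext n
    simp
  map_add' F G := by
    ext n
    simp [Finset.sum_add_distrib]
  map_mul' F G := by
    ext n
    rw [coeff_mul]
    simp only [coeff_mk]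
    rw [← sum_diag (fun a b => coeff b (coeff a F)) (fun a b => coeff b (coeff a G))]
    refine Finset.sum_congr rfl fun p _ => ?_
    rw [coeff_mul, map_sum]
    refine Finset.sum_congr rfl fun q _ => ?_
    rw [coeff_mul]

theorem coeff_diag (F : PowerSeries (PowerSeries K)) (n : ℕ) :
    coeff n (diag F) = ∑ p ∈ Finset.antidiagonal n, coeff p.2 (coeff p.1 F) :=
  coeff_mk n (fun n => ∑ p ∈ Finset.antidiagonal n, coeff p.2 (coeff p.1 F))

theorem diag_C (f : PowerSeries K) : diag (PowerSeries.C f) = f := by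
  ext n
  rw [coeff_diag, Finset.sum_eq_single (0, n)]
  · simp
  · rintro ⟨a, b⟩ hab h
    have ha : a ≠ 0 := by
      rintro rfl
      apply h
      rw [Finset.mem_antidiagonal] at hab
      simpa using hab
    simp [coeff_C, ha]
  · intro h
    exact absurd (by simp) h

theorem diag_map_C (f : PowerSeries K) : diag (PowerSeries.map (PowerSeries.C (R := K)) f) = f := by
  ext n
  rw [coeff_diag, Finset.sum_eq_single (n, 0)]
  · simp
  · rintro ⟨a, b⟩ hab h
    have hb : b ≠ 0 := by
      rintro rfl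
      apply h
      rw [Finset.mem_antidiagonal] at hab
      simpa using hab
    simp [coeff_C, hb]
  · intro h
    exact absurd (by simp) h

end diag

theorem isUnit_of_constantCoeff {K : Type*} [Field K] {f : PowerSeries K} (h : constantCoeff f ≠ 0) : IsUnit f :=
  isUnit_iff_constantCoeff.mpr h.isUnit

open scoped IntermediateField.algebraAdjoinAdjoin in
/-- The homomorphism `k(x) → K⟦X⟧`. -/
theorem exists_φ₀ (k K : Type u) [Field k] [Field K] [Algebra k K] (x : K) (hx : Transcendental k x)
    (y : PowerSeries K) (hy : PowerSeries.constantCoeff y = x) :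
    ∃ φ : IntermediateField.adjoin k {x} →+* PowerSeries K,
      (∀ c, constantCoeff (φ c) = c) ∧ (∀ c : k, φ (algebraMap k _ c) = PowerSeries.C (algebraMap k K c)) ∧
      φ ⟨x, IntermediateField.mem_adjoin_simple_self k x⟩ = y := by
  let e := Polynomial.algEquivOfTranscendental k x hx
  let ψ : Algebra.adjoin k {x} →+* PowerSeries K :=
    ((Polynomial.aeval y : Polynomial k →ₐ[k] PowerSeries K) : Polynomial k →+* PowerSeries K).comp
      (e.symm : Algebra.adjoin k {x} →+* Polynomial k)
  have hψe : ∀ p, ψ (e p) = Polynomial.aeval y p := fun p => by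
    simp only [ψ, RingHom.comp_apply, RingHom.coe_coe, AlgEquiv.symm_apply_apply]
  have hψ : ∀ c, constantCoeff (ψ c) = c := by
    intro c
    obtain ⟨p, rfl⟩ := e.surjective c
    rw [hψe, Polynomial.aeval_def, Polynomial.hom_eval₂, hy]
    have : (e p : K) = Polynomial.aeval x p := by
      simp only [e, Polynomial.algEquivOfTranscendental_apply]
      exact (Polynomial.aeval_algHom_apply (Algebra.adjoin k {x}).val _ p).symm
    rw [this, Polynomial.aeval_def]
    congr 1
  have hu : ∀ c : nonZeroDivisors (Algebra.adjoin k {x}), IsUnit (ψ c) := by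
    intro c
    apply isUnit_of_constantCoeff
    rw [hψ]
    have := nonZeroDivisors.ne_zero c.2
    intro h
    exact this (Subtype.ext h)
  let φ : IntermediateField.adjoin k {x} →+* PowerSeries K := IsLocalization.lift hu
  have hφ : ∀ c : Algebra.adjoin k {x}, φ (algebraMap _ _ c) = ψ c := fun c => IsLocalization.lift_eq hu c
  refine ⟨φ, ?_, ?_, ?_⟩
  · have : (constantCoeff (R := K)).comp φ = algebraMap (IntermediateField.adjoin k {x}) K := by
      apply IsLocalization.ringHom_ext (nonZeroDivisors (Algebra.adjoin k {x}))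
      ext c
      rw [RingHom.comp_apply, RingHom.comp_apply, hφ, hψ]
      rfl
    intro c
    exact DFunLike.congr_fun this c
  · intro c
    have h1 : (algebraMap k (IntermediateField.adjoin k {x}) c) =
      algebraMap (Algebra.adjoin k {x}) (IntermediateField.adjoin k {x}) (algebraMap k _ c) := rfl
    rw [h1, hφ]
    have h2 : algebraMap k (Algebra.adjoin k {x}) c = e (Polynomial.C c) := by
      rw [← Polynomial.algebraMap_eq]
      exact (e.commutes c).symm
    rw [h2, hψe, Polynomial.aeval_C, PowerSeries.algebraMap_apply]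
  · have h1 : (⟨x, IntermediateField.mem_adjoin_simple_self k x⟩ : IntermediateField.adjoin k {x}) =
      algebraMap (Algebra.adjoin k {x}) (IntermediateField.adjoin k {x})
        ⟨x, Algebra.self_mem_adjoin_singleton k x⟩ := rfl
    rw [h1, hφ]
    have h2 : (⟨x, Algebra.self_mem_adjoin_singleton k x⟩ : Algebra.adjoin k {x}) = e Polynomial.X := by
      apply Subtype.ext
      simp only [e, Polynomial.algEquivOfTranscendental_apply, Polynomial.aeval_X]
    rw [h2, hψe, Polynomial.aeval_X]


/-- The homomorphism `K → K⟦X⟧`. -/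
theorem exists_φ (k K : Type u) [Field k] [Field K] [Algebra k K] (x : K) (hx : IsSep k K x)
    (y : PowerSeries K) (hy : PowerSeries.constantCoeff y = x) :
    ∃ φ : K →+* PowerSeries K,
      (∀ c, constantCoeff (φ c) = c) ∧ (∀ c : k, φ (algebraMap k _ c) = PowerSeries.C (algebraMap k K c)) ∧
      φ x = y := by
  obtain ⟨φ₀, h1, h2, h3⟩ := exists_φ₀ k K x hx.tr y hy
  have := hx.fin
  have := hx.sep
  let K₀ := IntermediateField.adjoin k {x}
  let : Algebra K₀ (PowerSeries K) := φ₀.toAlgebra
  let pb : PowerBasis K₀ K := Field.powerBasisOfFiniteOfSeparable K₀ K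
  let p : Polynomial K₀ := minpoly K₀ pb.gen
  have hp : p.Monic := minpoly.monic pb.isIntegral_gen
  have hsep : p.Separable := Algebra.IsSeparable.isSeparable K₀ pb.gen
  let f : Polynomial (PowerSeries K) := p.map φ₀
  have hc : (constantCoeff (R := K)).comp φ₀ = algebraMap K₀ K := RingHom.ext h1
  have hf0 : (f.map (constantCoeff (R := K))) = p.map (algebraMap K₀ K) := by
    rw [Polynomial.map_map, hc]
  have hker : ∀ g : PowerSeries K, constantCoeff g = 0 ↔ g ∈ Ideal.span {(X : PowerSeries K)} := fun g => by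
    rw [Ideal.mem_span_singleton, X_dvd_iff]
  have hev : ∀ (g : Polynomial K₀) (b : PowerSeries K),
      constantCoeff (Polynomial.eval b (g.map φ₀)) = Polynomial.aeval (constantCoeff b) g := by
    intro g b
    rw [Polynomial.eval_map, Polynomial.hom_eval₂, hc, Polynomial.aeval_def]
  have hH : HenselianRing (PowerSeries K) (Ideal.span {(X : PowerSeries K)}) := inferInstance
  obtain ⟨a, ha, ha'⟩ := hH.is_henselian f (hp.map _) (PowerSeries.C pb.gen) (by
    rw [← hker, hev, constantCoeff_C, minpoly.aeval]) (by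
    rw [Polynomial.derivative_map]
    apply IsUnit.map
    apply isUnit_of_constantCoeff
    rw [hev, constantCoeff_C]
    exact hsep.aeval_derivative_ne_zero (minpoly.aeval _ _))
  have ha0 : Polynomial.aeval a (minpoly K₀ pb.gen) = 0 := by
    rw [Polynomial.aeval_def, ← Polynomial.eval_map]
    exact ha
  have hac : constantCoeff a = pb.gen := by
    have := (hker _).mpr ha'
    rw [map_sub, constantCoeff_C] at this
    exact sub_eq_zero.mp this
  let φ : K →ₐ[K₀] PowerSeries K := pb.lift a ha0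
  have hφg : φ pb.gen = a := pb.lift_gen a ha0
  have hφ₀ : ∀ c : K₀, φ (c : K) = φ₀ c := fun c => φ.commutes c
  refine ⟨φ, ?_, ?_, ?_⟩
  · intro c
    obtain ⟨g, rfl⟩ : ∃ g : Polynomial K₀, c = Polynomial.aeval pb.gen g := pb.exists_eq_aeval' c
    change constantCoeff (φ (Polynomial.aeval pb.gen g)) = _
    rw [← Polynomial.aeval_algHom_apply, hφg, Polynomial.aeval_def, Polynomial.hom_eval₂]
    change Polynomial.eval₂ ((constantCoeff (R := K)).comp φ₀) _ g = _
    rw [hc, hac]
    rfl
  · intro c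
    exact (hφ₀ (algebraMap k K₀ c)).trans (h2 c)
  · exact (hφ₀ ⟨x, IntermediateField.mem_adjoin_simple_self k x⟩).trans h3

/-- **NODE PHI.** -/
theorem exists_Φ (k K : Type u) [Field k] [Field K] [Algebra k K] (x : K) (hx : IsSep k K x)
    (y : PowerSeries K) (hy : PowerSeries.constantCoeff y = x) :
    ∃ Φ : PowerSeries K →+* PowerSeries K,
      (∀ f, PowerSeries.constantCoeff (Φ f) = PowerSeries.constantCoeff f) ∧
      Φ PowerSeries.X = PowerSeries.X ∧
      (∀ c : PowerSeries k, Φ (algebraMap (PowerSeries k) (PowerSeries K) c) =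
        algebraMap (PowerSeries k) (PowerSeries K) c) ∧
      Φ (PowerSeries.C x) = y := by
  obtain ⟨φ, h1, h2, h3⟩ := exists_φ k K x hx y hy
  refine ⟨diag.comp (PowerSeries.map φ), ?_, ?_, ?_, ?_⟩
  · intro f
    rw [RingHom.comp_apply, ← coeff_zero_eq_constantCoeff_apply, coeff_diag,
      ← coeff_zero_eq_constantCoeff_apply]
    rw [Finset.Nat.antidiagonal_zero, Finset.sum_singleton, coeff_map, coeff_zero_eq_constantCoeff_apply, h1]
  · rw [RingHom.comp_apply, map_X]
    have : (X : PowerSeries (PowerSeries K)) = PowerSeries.map (PowerSeries.C (R := K)) X := by rw [map_X]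
    rw [this, diag_map_C]
  · intro c
    rw [RingHom.comp_apply]
    have h4 : PowerSeries.map φ (algebraMap (PowerSeries k) (PowerSeries K) c) =
      PowerSeries.map (PowerSeries.C (R := K)) (algebraMap (PowerSeries k) (PowerSeries K) c) := by
      have h5 : algebraMap (PowerSeries k) (PowerSeries K) c = PowerSeries.map (algebraMap k K) c := rfl
      ext1 n
      rw [coeff_map, coeff_map, h5, coeff_map, h2]
    rw [h4, diag_map_C]
  · rw [RingHom.comp_apply, map_C, h3, diag_C]

end K888.SerPhi
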